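import Mathlib.LinearAlgebra.ExteriorPower.Basis
import Mathlib.RingTheory.Flat.EquationalCriterion

/-!
# Exterior powers of flat modules are flat
-/

set_option autoImplicit false

universe u

namespace Groth.Agent.H1ExtFlat

open LinearMap

variable {R : Type u} [CommRing R] {M : Type u} [AddCommGroup M] [Module R M]

/-- The kernel of the map of exterior powers induced by a surjection. -/
theorem ker_map_le {F : Type u} [AddCommGroup F] [Module R F] (π : F →ₗ[R] M) (hπ : Function.Surjective π) (n : ℕ) :
    LinearMap.ker (exteriorPower.map n π) ≤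
      Submodule.span R (exteriorPower.ιMulti R n '' {v : Fin n → F | ∃ j, π (v j) = 0}) := by
  classical
  set S := Submodule.span R (exteriorPower.ιMulti R n '' {v : Fin n → F | ∃ j, π (v j) = 0}) with hS
  choose σ hσ using hπ
  let q : (Fin n → F) → (⋀[R]^n F) ⧸ S := fun v => Submodule.Quotient.mk (exteriorPower.ιMulti R n v)
  have hslot : ∀ (v : Fin n → F) (j : Fin n) (x y : F), π x = π y →
      q (Function.update v j x) = q (Function.update v j y) := by
    intro v j x y hxy
    show Submodule.Quotient.mk _ = Submodule.Quotient.mk _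
    rw [Submodule.Quotient.eq, ← AlternatingMap.map_update_sub]
    refine Submodule.subset_span ⟨_, ⟨j, ?_⟩, rfl⟩
    rw [Function.update_self, map_sub, hxy, sub_self]
  have hwell : ∀ v w : Fin n → F, (∀ j, π (v j) = π (w j)) → q v = q w := by
    intro v w hvw
    suffices h : ∀ s : Finset (Fin n), q v = q (s.piecewise w v) by
      rw [h Finset.univ, Finset.piecewise_univ]
    intro s
    induction s using Finset.induction_on with
    | empty => rw [Finset.piecewise_empty]
    | @insert j s hj ih =>
      rw [ih, Finset.piecewise_insert]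
      conv_lhs => rw [← Function.update_eq_self j (s.piecewise w v)]
      refine hslot _ j _ _ ?_
      rw [Finset.piecewise_eq_of_notMem _ _ _ hj]
      exact hvw j
  let A : M [⋀^Fin n]→ₗ[R] ((⋀[R]^n F) ⧸ S) :=
    { toFun := fun m => q (σ ∘ m)
      map_update_add' := fun {hdec} m i x y => by
        cases Subsingleton.elim hdec (instDecidableEqFin n)
        have e : ∀ z : M, q (σ ∘ Function.update m i z) = q (Function.update (σ ∘ m) i (σ z)) := fun z => by
          rw [Function.comp_update]
        rw [e, e, e, hslot (σ ∘ m) i (σ (x + y)) (σ x + σ y) (by rw [map_add, hσ, hσ, hσ])]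
        show Submodule.Quotient.mk _ = _
        rw [AlternatingMap.map_update_add, Submodule.Quotient.mk_add]
      map_update_smul' := fun {hdec} m i c x => by
        cases Subsingleton.elim hdec (instDecidableEqFin n)
        have e : ∀ z : M, q (σ ∘ Function.update m i z) = q (Function.update (σ ∘ m) i (σ z)) := fun z => by
          rw [Function.comp_update]
        rw [e, e, hslot (σ ∘ m) i (σ (c • x)) (c • σ x) (by rw [map_smul, hσ, hσ])]
        show Submodule.Quotient.mk _ = _
        rw [AlternatingMap.map_update_smul, Submodule.Quotient.mk_smul]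
      map_eq_zero_of_eq' := fun m i j hm hij => by
        show Submodule.Quotient.mk _ = 0
        rw [AlternatingMap.map_eq_zero_of_eq (exteriorPower.ιMulti R n) (σ ∘ m) (congrArg σ hm) hij, Submodule.Quotient.mk_zero] }
  have hcomp : (exteriorPower.alternatingMapLinearEquiv A).comp (exteriorPower.map n π) = S.mkQ := by
    refine exteriorPower.linearMap_ext (AlternatingMap.ext fun v => ?_)
    simp only [LinearMap.compAlternatingMap_apply, LinearMap.comp_apply, exteriorPower.map_apply_ιMulti,
      exteriorPower.alternatingMapLinearEquiv_apply_ιMulti, Submodule.mkQ_apply]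
    exact hwell _ _ fun j => hσ _
  intro z hz
  rw [← Submodule.Quotient.mk_eq_zero S, ← Submodule.mkQ_apply, ← hcomp, LinearMap.comp_apply,
    LinearMap.mem_ker.1 hz, map_zero]

/-- A vanishing element of an exterior power of a flat module vanishes at a free stage. -/
theorem exists_factor [Module.Flat R M] (n : ℕ) {F₀ : Type u} [AddCommGroup F₀] [Module R F₀]
    [Module.Free R F₀] [Module.Finite R F₀] (x : F₀ →ₗ[R] M) (z : ⋀[R]^n F₀) (hz : exteriorPower.map n x z = 0) :
    ∃ (k : ℕ) (a : F₀ →ₗ[R] (Fin k →₀ R)) (y : (Fin k →₀ R) →ₗ[R] M), x = y ∘ₗ a ∧ exteriorPower.map n a z = 0 := by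
  classical
  let π : (M →₀ R) →ₗ[R] M := Finsupp.linearCombination R id
  have hπ : Function.Surjective π := fun m => ⟨Finsupp.single m 1, by simp [π]⟩
  let b := Module.Free.chooseBasis R F₀
  let x0 : F₀ →ₗ[R] (M →₀ R) := b.constr R fun i => Finsupp.single (x (b i)) 1
  have hx0 : π ∘ₗ x0 = x := b.ext fun i => by simp [x0, π]
  have hker : exteriorPower.map n x0 z ∈ LinearMap.ker (exteriorPower.map n π) := by
    rw [LinearMap.mem_ker, ← LinearMap.comp_apply, ← exteriorPower.map_comp, hx0, hz]
  obtain ⟨T, hT, hzT⟩ := Submodule.mem_span_finite_of_mem_span (ker_map_le π hπ n hker)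
  choose v hv using fun t : T => hT t.2
  let s : Finset M := (Finset.univ.biUnion fun i => (x0 (b i)).support) ∪
    (Finset.univ.biUnion fun t : T => Finset.univ.biUnion fun j => (v t j).support)
  let incl : (Fin s.card →₀ R) →ₗ[R] (M →₀ R) := Finsupp.lmapDomain R R (fun i => (s.equivFin.symm i : M))
  have hinjf : Function.Injective (fun i => (s.equivFin.symm i : M)) := Subtype.val_injective.comp s.equivFin.symm.injective
  let res : (M →₀ R) →ₗ[R] (Fin s.card →₀ R) := Finsupp.lcomapDomain _ hinjf
  have hres : res ∘ₗ incl = LinearMap.id :=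
    LinearMap.ext fun w => Finsupp.comapDomain_mapDomain _ hinjf w
  have hsupp : ∀ w : M →₀ R, w.support ⊆ s → incl (res w) = w := fun w hw =>
    Finsupp.mapDomain_comapDomain _ hinjf w fun m hm => ⟨s.equivFin ⟨m, hw hm⟩, by simp⟩
  have hx0s : incl ∘ₗ (res ∘ₗ x0) = x0 := b.ext fun i =>
    hsupp _ fun m hm => Finset.mem_union_left _ (Finset.mem_biUnion.2 ⟨i, Finset.mem_univ _, hm⟩)
  have hvs : ∀ t j, incl (res (v t j)) = v t j := fun t j => hsupp _ fun m hm =>
    Finset.mem_union_right _ (Finset.mem_biUnion.2 ⟨t, Finset.mem_univ _, Finset.mem_biUnion.2 ⟨j, Finset.mem_univ _, hm⟩⟩)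
  choose jt hjt using fun t : T => (hv t).1
  let f : (T →₀ R) →ₗ[R] (Fin s.card →₀ R) := Finsupp.linearCombination R fun t => res (v t (jt t))
  have hf : (π ∘ₗ incl) ∘ₗ f = 0 := Finsupp.lhom_ext fun t c => by
    simp [f, hvs, hjt]
  obtain ⟨k, a, y, hya, haf⟩ := Module.Flat.exists_factorization_of_comp_eq_zero_of_free hf
  refine ⟨k, a ∘ₗ (res ∘ₗ x0), y, ?_, ?_⟩
  · rw [← LinearMap.comp_assoc, ← hya, LinearMap.comp_assoc, hx0s, hx0]
  · have h1 : exteriorPower.map n (res ∘ₗ x0) z = exteriorPower.map n res (exteriorPower.map n x0 z) := by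
      rw [exteriorPower.map_comp, LinearMap.comp_apply]
    rw [exteriorPower.map_comp, LinearMap.comp_apply, h1]
    have h2 : Submodule.span R (T : Set (⋀[R]^n (M →₀ R))) ≤
        LinearMap.ker ((exteriorPower.map n a).comp (exteriorPower.map n res)) := by
      rw [Submodule.span_le]
      intro w hw
      obtain ⟨t, rfl⟩ : ∃ t : T, (t : ⋀[R]^n (M →₀ R)) = w := ⟨⟨w, hw⟩, rfl⟩
      rw [← (hv t).2]
      rw [SetLike.mem_coe, LinearMap.mem_ker, LinearMap.comp_apply, exteriorPower.map_apply_ιMulti,
        exteriorPower.map_apply_ιMulti]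
      refine AlternatingMap.map_coord_zero _ (jt t) ?_
      have := LinearMap.congr_fun haf (Finsupp.single t 1)
      simpa [f] using this
    exact h2 hzT

theorem flat_exteriorPower [Module.Flat R M] (n : ℕ) : Module.Flat R (⋀[R]^n M) := by
  classical
  rw [Module.Flat.iff_forall_exists_factorization]
  intro l f x hxf
  let π : (M →₀ R) →ₗ[R] M := Finsupp.linearCombination R id
  have hπ : Function.Surjective π := fun m => ⟨Finsupp.single m 1, by simp [π]⟩
  choose w hw using fun t : Fin l => exteriorPower.map_surjective (n := n) hπ (x (Finsupp.single t 1))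
  -- finitely many elements of `M` are involved
  have hfin : ∀ u : ⋀[R]^n (M →₀ R), ∃ (s : Finset M), ∀ (incl : (s →₀ R) →ₗ[R] (M →₀ R)),
      incl = Finsupp.lmapDomain R R Subtype.val → u ∈ LinearMap.range (exteriorPower.map n incl) := by
    intro u
    have hu : u ∈ Submodule.span R (Set.range (exteriorPower.ιMulti R n (M := M →₀ R))) :=
      (exteriorPower.ιMulti_span R n (M →₀ R)).symm ▸ Submodule.mem_top
    induction hu using Submodule.span_induction with
    | mem u hu =>
      obtain ⟨v, rfl⟩ := hu
      refine ⟨Finset.univ.biUnion fun j => (v j).support, fun incl hincl => ?_⟩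
      refine ⟨exteriorPower.ιMulti R n fun j => Finsupp.comapDomain Subtype.val (v j) Subtype.val_injective.injOn, ?_⟩
      rw [exteriorPower.map_apply_ιMulti, hincl]
      congr 1
      funext j
      exact Finsupp.mapDomain_comapDomain _ Subtype.val_injective (v j) fun m hm =>
        ⟨⟨m, Finset.mem_biUnion.2 ⟨j, Finset.mem_univ _, hm⟩⟩, rfl⟩
    | zero => exact ⟨∅, fun incl _ => Submodule.zero_mem _⟩
    | add u u' _ _ hu hu' =>
      obtain ⟨s, hs⟩ := hu
      obtain ⟨s', hs'⟩ := hu'
      refine ⟨s ∪ s', fun incl hincl => ?_⟩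
      have hmono : ∀ (t : Finset M), t ⊆ s ∪ s' → LinearMap.range (exteriorPower.map n (Finsupp.lmapDomain R R (Subtype.val : t → M))) ≤
          LinearMap.range (exteriorPower.map n incl) := by
        intro t ht
        have e : (Finsupp.lmapDomain R R (Subtype.val : t → M)) = incl.comp (Finsupp.lmapDomain R R fun m : t => (⟨m.1, ht m.2⟩ : ↥(s ∪ s'))) := by
          rw [hincl, ← Finsupp.lmapDomain_comp]
          rfl
        rw [e, exteriorPower.map_comp]
        exact LinearMap.range_comp_le_range _ _
      exact Submodule.add_mem _ (hmono s Finset.subset_union_left (hs _ rfl)) (hmono s' Finset.subset_union_right (hs' _ rfl))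
    | smul c u _ hu =>
      obtain ⟨s, hs⟩ := hu
      exact ⟨s, fun incl hincl => Submodule.smul_mem _ c (hs incl hincl)⟩
  choose s hs using fun t => hfin (w t)
  let S := Finset.univ.biUnion s
  let incl : (S →₀ R) →ₗ[R] (M →₀ R) := Finsupp.lmapDomain R R Subtype.val
  have hmem : ∀ t, w t ∈ LinearMap.range (exteriorPower.map n incl) := by
    intro t
    obtain ⟨u, hu⟩ := hs t _ rfl
    refine ⟨exteriorPower.map n (Finsupp.lmapDomain R R fun m : s t => (⟨m.1, Finset.mem_biUnion.2 ⟨t, Finset.mem_univ _, m.2⟩⟩ : S)) u, ?_⟩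
    rw [← LinearMap.comp_apply, ← exteriorPower.map_comp, ← Finsupp.lmapDomain_comp]
    exact hu
  choose z hz using hmem
  let x0 : (Fin l →₀ R) →ₗ[R] ⋀[R]^n (S →₀ R) := Finsupp.linearCombination R z
  have hx : x = exteriorPower.map n (π ∘ₗ incl) ∘ₗ x0 := Finsupp.lhom_ext fun t c => by
    have hc : (Finsupp.single t c : Fin l →₀ R) = c • Finsupp.single t 1 := by simp
    rw [hc, map_smul, map_smul, LinearMap.comp_apply, exteriorPower.map_comp, LinearMap.comp_apply]
    simp [x0, hz, hw]
  have h0 : exteriorPower.map n (π ∘ₗ incl) (x0 f) = 0 := by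
    rw [← LinearMap.comp_apply, ← hx, hxf]
  obtain ⟨k, a, y, hya, ha⟩ := exists_factor n (π ∘ₗ incl) (x0 f) h0
  have hrel : ((exteriorPower.map n a).comp x0) f = 0 := ha
  obtain ⟨k', a', y', hya', ha'⟩ := (Module.Flat.iff_forall_exists_factorization.1
    (inferInstance : Module.Flat R (⋀[R]^n (Fin k →₀ R)))) hrel
  refine ⟨k', a', exteriorPower.map n y ∘ₗ y', ?_, ha'⟩
  rw [LinearMap.comp_assoc, ← hya', hx, hya, exteriorPower.map_comp, LinearMap.comp_assoc]

end Groth.Agent.H1ExtFlat
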