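import Groth.Agent.FlatLoc6.GeomProp
import Groth.Agent.PopescuLib.Field
import Mathlib.RingTheory.Flat.EquationalCriterion

/-!
# Kähler differentials of regular algebras over perfect fields are flat
-/

set_option autoImplicit false

universe u

open TensorProduct

namespace Groth.Agent.H1ExtFlat

theorem isGeometricallyRegular_of_perfectField (k A : Type u) [Field k] [PerfectField k] [CommRing A]
    [Algebra k A] [IsRegularRing A] : CAlg.IsGeometricallyRegular k A := by
  intro k' _ _ hk'
  haveI := hk'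
  haveI : Algebra.IsSeparable k k' := inferInstance
  haveI : Algebra.FormallyEtale k k' := Algebra.FormallyEtale.of_isSeparable k k'
  haveI : Algebra.FinitePresentation k k' := Algebra.FinitePresentation.of_finiteType.mp inferInstance
  haveI : Algebra.Etale k k' := ⟨inferInstance, inferInstance⟩
  haveI : IsRegularRing (A ⊗[k] k') := GeomReg.isRegularRing_of_smooth A (A ⊗[k] k')
  exact IsRegularRing.of_ringEquiv (Algebra.TensorProduct.comm k A k').toRingEquiv

theorem smul_one_tmul {B A : Type u} [CommRing B] [CommRing A] [Algebra B A] {M : Type u} [AddCommGroup M]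
    [Module B M] (c : A) (m : M) : c • ((1 : A) ⊗ₜ[B] m) = c ⊗ₜ[B] m := by
  rw [TensorProduct.smul_tmul', smul_eq_mul, mul_one]

/-- Differentials of an ind-smooth algebra over a field are flat. -/
theorem flat_kaehler_of_indSmooth (k A : Type u) [Field k] [CommRing A] [Algebra k A]
    (h : Smoothing.IndSmooth k A) : Module.Flat A (Ω[A⁄k]) := by
  classical
  rw [Module.Flat.iff_forall_exists_factorization]
  intro l f x hxf
  choose w hw using fun t : Fin l => KaehlerDifferential.linearCombination_surjective k A (x (Finsupp.single t 1))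
  let w' : (Fin l →₀ A) →ₗ[A] (A →₀ A) := Finsupp.linearCombination A w
  have hx : x = Finsupp.linearCombination A (KaehlerDifferential.D k A) ∘ₗ w' := Finsupp.lhom_ext fun t c => by
    have hc : (Finsupp.single t c : Fin l →₀ A) = c • Finsupp.single t 1 := by simp
    rw [hc, map_smul, map_smul, LinearMap.comp_apply]
    simp [w', hw]
  have hu : w' f ∈ KaehlerDifferential.kerTotal k A := by
    rw [← KaehlerDifferential.kerTotal_eq, LinearMap.mem_ker, ← LinearMap.comp_apply, ← hx, hxf]
  obtain ⟨T, hT, huT⟩ := Submodule.mem_span_finite_of_mem_span hu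
  -- the finitely many elements involved
  have hpair : ∀ t : T, ∃ E : Finset A, ∀ A0 : Subalgebra k A, ↑E ⊆ (A0 : Set A) →
      ((∃ a b : A, a ∈ A0 ∧ b ∈ A0 ∧ (t : A →₀ A) = Finsupp.single a 1 + Finsupp.single b 1 - Finsupp.single (a + b) 1) ∨
        (∃ a b : A, a ∈ A0 ∧ b ∈ A0 ∧ (t : A →₀ A) = Finsupp.single b a + Finsupp.single a b - Finsupp.single (a * b) 1) ∨
        ∃ c : k, (t : A →₀ A) = Finsupp.single (algebraMap k A c) 1) := by
    intro t
    rcases hT t.2 with (⟨⟨a, b⟩, hab⟩ | ⟨⟨a, b⟩, hab⟩) | ⟨c, hc⟩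
    · exact ⟨{a, b}, fun A0 hE => Or.inl ⟨a, b, hE (by simp), hE (by simp), hab.symm⟩⟩
    · exact ⟨{a, b}, fun A0 hE => Or.inr (Or.inl ⟨a, b, hE (by simp), hE (by simp), hab.symm⟩)⟩
    · exact ⟨∅, fun A0 _ => Or.inr (Or.inr ⟨c, hc.symm⟩)⟩
  choose ET hET using hpair
  let E : Finset A := (Finset.univ.biUnion fun t => (w t).support) ∪ Finset.univ.biUnion ET
  let A0 : Subalgebra k A := Algebra.adjoin k (E : Set A)
  haveI : Algebra.FiniteType k A0 := (Subalgebra.fg_iff_finiteType A0).1 (Subalgebra.fg_adjoin_finset E)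
  obtain ⟨B, _, _, hB, g, h', hgh⟩ := h A0 (Algebra.FinitePresentation.of_finiteType.1 inferInstance) A0.val
  haveI := hB
  letI : Algebra B A := h'.toRingHom.toAlgebra
  haveI : IsScalarTower k B A := IsScalarTower.of_algebraMap_eq fun c => (h'.commutes c).symm
  let P := A ⊗[B] Ω[B⁄k]
  let Φ : P →ₗ[A] Ω[A⁄k] := KaehlerDifferential.mapBaseChange k B A
  let L : (A →₀ A) →ₗ[A] P := Finsupp.linearCombination A fun e =>
    if he : e ∈ A0 then (1 : A) ⊗ₜ[B] KaehlerDifferential.D k B (g ⟨e, he⟩) else 0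
  have hgA : ∀ e (he : e ∈ A0), algebraMap B A (g ⟨e, he⟩) = e := fun e he => DFunLike.congr_fun hgh ⟨e, he⟩
  have hL : ∀ e (he : e ∈ A0) (c : A), L (Finsupp.single e c) = c ⊗ₜ[B] KaehlerDifferential.D k B (g ⟨e, he⟩) := by
    intro e he c
    simp only [L, Finsupp.linearCombination_single, dif_pos he]
    exact smul_one_tmul c _
  have hΦL : ∀ e (he : e ∈ A0), Φ (L (Finsupp.single e 1)) = KaehlerDifferential.D k A e := by
    intro e he
    rw [hL e he, KaehlerDifferential.mapBaseChange_tmul, one_smul, KaehlerDifferential.map_D, hgA]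
  have hkill : L (w' f) = 0 := by
    have hle : Submodule.span A (T : Set (A →₀ A)) ≤ LinearMap.ker L := by
      rw [Submodule.span_le]
      intro v hv
      rw [SetLike.mem_coe, LinearMap.mem_ker]
      rcases hET ⟨v, hv⟩ A0 (fun e he => Algebra.subset_adjoin (Finset.mem_coe.2 (Finset.mem_union_right _
        (Finset.mem_biUnion.2 ⟨_, Finset.mem_univ _, he⟩)))) with ⟨a, b, ha, hb, he⟩ | ⟨a, b, ha, hb, he⟩ | ⟨c, he⟩
      · rw [show v = _ from he, map_sub, map_add, hL a ha, hL b hb, hL (a + b) (add_mem ha hb),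
          show (⟨a + b, add_mem ha hb⟩ : A0) = ⟨a, ha⟩ + ⟨b, hb⟩ from rfl, map_add g, map_add, TensorProduct.tmul_add,
          sub_self]
      · have key : ∀ (x : B) (ω : Ω[B⁄k]), (1 : A) ⊗ₜ[B] (x • ω) = algebraMap B A x ⊗ₜ[B] ω := fun x ω => by
          rw [← TensorProduct.smul_tmul, Algebra.smul_def, mul_one]
        rw [show v = _ from he, map_sub, map_add, hL a ha, hL b hb, hL (a * b) (mul_mem ha hb),
          show (⟨a * b, mul_mem ha hb⟩ : A0) = ⟨a, ha⟩ * ⟨b, hb⟩ from rfl, map_mul g, Derivation.leibniz,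
          TensorProduct.tmul_add, key, key, hgA, hgA, sub_self]
      · rw [show v = _ from he, hL _ (A0.algebraMap_mem c),
          show (⟨algebraMap k A c, A0.algebraMap_mem c⟩ : A0) = algebraMap k A0 c from rfl, g.commutes,
          Derivation.map_algebraMap, TensorProduct.tmul_zero]
    exact hle huT
  have hxL : x = Φ ∘ₗ (L ∘ₗ w') := by
    rw [hx]
    refine Finsupp.lhom_ext fun t c => ?_
    have hc : (Finsupp.single t c : Fin l →₀ A) = c • Finsupp.single t 1 := by simp
    rw [hc, map_smul, map_smul]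
    congr 1
    have hwt : w' (Finsupp.single t 1) = w t := by simp [w']
    simp only [LinearMap.comp_apply, hwt]
    conv_rhs => rw [← (w t).sum_single]
    conv_lhs => rw [← (w t).sum_single]
    simp only [Finsupp.sum, map_sum]
    refine Finset.sum_congr rfl fun e he => ?_
    have he' : e ∈ A0 := Algebra.subset_adjoin (Finset.mem_coe.2 (Finset.mem_union_left _
      (Finset.mem_biUnion.2 ⟨t, Finset.mem_univ _, he⟩)))
    rw [← Finsupp.smul_single_one e ((w t) e), map_smul, map_smul, map_smul, hΦL e he']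
    simp
  haveI : Module.Flat B (Ω[B⁄k]) := inferInstance
  obtain ⟨m, a, y, hy, ha⟩ := Module.Flat.iff_forall_exists_factorization.1
    (inferInstance : Module.Flat A P) (f := f) (x := L ∘ₗ w') hkill
  exact ⟨m, a, Φ ∘ₗ y, by rw [LinearMap.comp_assoc, ← hy, ← hxL], ha⟩

/-- Differentials over `ℤ` of a regular local ring of characteristic `p` are flat. -/
theorem flat_kaehler_of_regular (p : ℕ) [Fact p.Prime] (A : Type u) [CommRing A] [IsRegularRing A]
    [IsNoetherianRing A] [CharP A p] : Module.Flat A (Ω[A⁄ℤ]) := by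
  let φ : ULift.{u} (ZMod p) →+* A :=
    (ZMod.castHom dvd_rfl A).comp (ULift.ringEquiv : ULift.{u} (ZMod p) ≃+* ZMod p).toRingHom
  letI : Algebra (ULift.{u} (ZMod p)) A := φ.toAlgebra
  haveI : Finite (ULift.{u} (ZMod p)) := inferInstance
  have hI := PopescuLib.indSmooth_field (isGeometricallyRegular_of_perfectField (ULift.{u} (ZMod p)) A)
  haveI : Module.Flat A (Ω[A⁄ULift.{u} (ZMod p)]) := flat_kaehler_of_indSmooth _ A hI
  have hsurj : Function.Surjective (algebraMap ℤ (ULift.{u} (ZMod p))) := by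
    intro c
    obtain ⟨n, hn⟩ := ZMod.intCast_surjective c.down
    exact ⟨n, ULift.ext _ _ (by simpa using hn)⟩
  haveI : Subsingleton (Ω[ULift.{u} (ZMod p)⁄ℤ]) := KaehlerDifferential.subsingleton_of_surjective _ _ hsurj
  have hinj : Function.Injective (KaehlerDifferential.map ℤ (ULift.{u} (ZMod p)) A A) := by
    rw [← LinearMap.ker_eq_bot, eq_bot_iff]
    intro z hz
    obtain ⟨y, rfl⟩ := (KaehlerDifferential.exact_mapBaseChange_map ℤ (ULift.{u} (ZMod p)) A z).1 hz
    rw [Subsingleton.elim y 0, map_zero]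
    exact Submodule.zero_mem _
  exact Module.Flat.of_linearEquiv
    (LinearEquiv.ofBijective _ ⟨hinj, KaehlerDifferential.map_surjective ℤ (ULift.{u} (ZMod p)) A⟩)

end Groth.Agent.H1ExtFlat
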